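import Mathlib

/-!
# The category of finitely presented modules: zero object, biproducts, cokernels, presentations
-/

namespace Groth.Agent.Lib.Helper2.EW

open CategoryTheory CategoryTheory.Limits

universe u

variable (A : Type u) [CommRing A]

/-- Finitely presented `A`-modules. -/
abbrev FpMod :=
  ObjectProperty.FullSubcategory (fun M : ModuleCat.{u} A => Module.FinitePresentation A M)

variable {A}

namespace FpMod

instance (X : FpMod A) : Module.FinitePresentation A X.obj := X.property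

/-- Constructor for objects. -/
abbrev of (M : Type u) [AddCommGroup M] [Module A M] [Module.FinitePresentation A M] : FpMod A :=
  ⟨ModuleCat.of A M, ‹_›⟩

/-- Constructor for morphisms. -/
abbrev homOf {X Y : FpMod A} (f : X.obj →ₗ[A] Y.obj) : X ⟶ Y :=
  ObjectProperty.homMk (ModuleCat.ofHom f)

/-- The underlying linear map. -/
abbrev lin {X Y : FpMod A} (f : X ⟶ Y) : X.obj →ₗ[A] Y.obj := f.hom.hom

@[simp] lemma lin_homOf {X Y : FpMod A} (f : X.obj →ₗ[A] Y.obj) : lin (homOf f) = f := rfl

@[simp] lemma homOf_lin {X Y : FpMod A} (f : X ⟶ Y) : homOf (lin f) = f := rfl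

lemma hom_ext' {X Y : FpMod A} {f g : X ⟶ Y} (h : lin f = lin g) : f = g := by
  apply ObjectProperty.hom_ext
  apply ModuleCat.hom_ext
  exact h

@[simp] lemma lin_comp {X Y Z : FpMod A} (f : X ⟶ Y) (g : Y ⟶ Z) :
    lin (f ≫ g) = lin g ∘ₗ lin f := rfl

@[simp] lemma lin_id (X : FpMod A) : lin (𝟙 X) = LinearMap.id := rfl

@[simp] lemma lin_add {X Y : FpMod A} (f g : X ⟶ Y) : lin (f + g) = lin f + lin g := rfl

@[simp] lemma lin_zero {X Y : FpMod A} : lin (0 : X ⟶ Y) = 0 := rfl

lemma lin_sum {X Y : FpMod A} {ι : Type*} (s : Finset ι) (f : ι → (X ⟶ Y)) :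
    lin (∑ i ∈ s, f i) = ∑ i ∈ s, lin (f i) := by
  classical
  induction s using Finset.induction_on with
  | empty => simp
  | insert a s ha ih => rw [Finset.sum_insert ha, Finset.sum_insert ha, lin_add, ih]

lemma homOf_comp {X Y Z : FpMod A} (f : X.obj →ₗ[A] Y.obj) (g : Y.obj →ₗ[A] Z.obj) :
    homOf (g ∘ₗ f) = (homOf f : X ⟶ Y) ≫ (homOf g : Y ⟶ Z) := rfl

lemma homOf_add {X Y : FpMod A} (f g : X.obj →ₗ[A] Y.obj) :
    (homOf (f + g) : X ⟶ Y) = homOf f + homOf g := rfl

lemma homOf_sum {X Y : FpMod A} {ι : Type*} (s : Finset ι) (f : ι → (X.obj →ₗ[A] Y.obj)) :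
    (homOf (∑ i ∈ s, f i) : X ⟶ Y) = ∑ i ∈ s, homOf (f i) :=
  hom_ext' (by rw [lin_sum]; rfl)

/-- The zero object. -/
instance : HasZeroObject (FpMod A) := by
  refine ⟨⟨of PUnit.{u+1}, ?_⟩⟩
  rw [IsZero.iff_id_eq_zero]
  apply hom_ext'
  ext x

/-- Binary biproducts. -/
noncomputable def binaryBicone (X Y : FpMod A) : BinaryBicone X Y where
  pt := of (X.obj × Y.obj)
  fst := homOf (LinearMap.fst A X.obj Y.obj)
  snd := homOf (LinearMap.snd A X.obj Y.obj)
  inl := homOf (LinearMap.inl A X.obj Y.obj)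
  inr := homOf (LinearMap.inr A X.obj Y.obj)
  inl_fst := hom_ext' (by ext x; rfl)
  inl_snd := hom_ext' (by ext x; rfl)
  inr_fst := hom_ext' (by ext x; rfl)
  inr_snd := hom_ext' (by ext x; rfl)

instance : HasBinaryBiproducts (FpMod A) :=
  ⟨fun X Y => HasBinaryBiproduct.mk
    ⟨binaryBicone X Y, isBinaryBilimitOfTotal _ (hom_ext' (by
      apply LinearMap.ext
      rintro ⟨a, b⟩
      change ((a, 0) + (0, b) : X.obj × Y.obj) = (a, b)
      simp))⟩⟩

lemma exists_desc {M N P : Type*} [AddCommGroup M] [Module A M] [AddCommGroup N] [Module A N]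
    [AddCommGroup P] [Module A P] (g : M →ₗ[A] N) (hg : Function.Surjective g) (h : M →ₗ[A] P)
    (hker : ∀ y, g y = 0 → h y = 0) : ∃ d : N →ₗ[A] P, ∀ y, d (g y) = h y := by
  refine ⟨(LinearMap.ker g).liftQ h (fun y hy => hker y hy) ∘ₗ
    (g.quotKerEquivOfSurjective hg).symm.toLinearMap, fun y => ?_⟩
  have : (g.quotKerEquivOfSurjective hg).symm (g y) = (LinearMap.ker g).mkQ y := by
    rw [LinearEquiv.symm_apply_eq]; rfl
  simp only [LinearMap.coe_comp, LinearEquiv.coe_coe, Function.comp_apply, this]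
  rfl

/-- Right exact sequences give cokernel coforks. -/
noncomputable def isColimitOfExact {X Y Z : FpMod A} (f : X ⟶ Y) (g : Y ⟶ Z)
    (hg : Function.Surjective (lin g)) (hex : Function.Exact (lin f) (lin g))
    (w : f ≫ g = 0) : IsColimit (CokernelCofork.ofπ g w) :=
  have key : ∀ {T : FpMod A} (h : Y ⟶ T), f ≫ h = 0 → ∀ y, lin g y = 0 → lin h y = 0 := by
    intro T h hh y hy
    obtain ⟨x, rfl⟩ := (hex y).mp hy
    have : lin (f ≫ h) x = 0 := by rw [hh]; rfl
    exact this
  CokernelCofork.IsColimit.ofπ g w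
    (fun {T} h hh => homOf (exists_desc (lin g) hg (lin h) (key h hh)).choose)
    (fun {T} h hh => hom_ext' (by
      ext y
      exact (exists_desc (lin g) hg (lin h) (key h hh)).choose_spec y))
    (fun {T} h hh k hk => hom_ext' (by
      apply LinearMap.ext
      intro z
      obtain ⟨y, rfl⟩ := hg z
      have h1 : lin k (lin g y) = lin h y := by rw [← hk]; rfl
      rw [h1]
      exact ((exists_desc (lin g) hg (lin h) (key h hh)).choose_spec y).symm))

/-- The standard cokernel. -/
instance finitePresentation_quot_range {X Y : FpMod A} (f : X ⟶ Y) :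
    Module.FinitePresentation A (Y.obj ⧸ LinearMap.range (lin f)) := by
  refine Module.finitePresentation_of_surjective (LinearMap.range (lin f)).mkQ
    (Submodule.mkQ_surjective _) ?_
  rw [Submodule.ker_mkQ, LinearMap.range_eq_map]
  exact (Module.Finite.fg_top).map _

/-- The standard cokernel object. -/
abbrev cokerObj {X Y : FpMod A} (f : X ⟶ Y) : FpMod A := of (Y.obj ⧸ LinearMap.range (lin f))

/-- The standard cokernel projection. -/
abbrev cokerπ {X Y : FpMod A} (f : X ⟶ Y) : Y ⟶ cokerObj f :=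
  homOf (LinearMap.range (lin f)).mkQ

lemma cokerπ_surjective {X Y : FpMod A} (f : X ⟶ Y) : Function.Surjective (lin (cokerπ f)) :=
  Submodule.mkQ_surjective _

lemma cokerπ_exact {X Y : FpMod A} (f : X ⟶ Y) : Function.Exact (lin f) (lin (cokerπ f)) := by
  rw [LinearMap.exact_iff]
  change LinearMap.ker (LinearMap.range (lin f)).mkQ = _
  rw [Submodule.ker_mkQ]

lemma cokerπ_w {X Y : FpMod A} (f : X ⟶ Y) : f ≫ cokerπ f = 0 :=
  hom_ext' (by
    ext x
    exact (cokerπ_exact f).apply_apply_eq_zero x)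

instance : HasCokernels (FpMod A) where
  has_colimit {X Y} f :=
    HasColimit.mk ⟨_, isColimitOfExact f _ (cokerπ_surjective f) (cokerπ_exact f) (cokerπ_w f)⟩

instance : HasCoequalizers (FpMod A) := Preadditive.hasCoequalizers_of_hasCokernels

instance : HasFiniteCoproducts (FpMod A) := hasFiniteCoproducts_of_has_binary_and_initial

/-- The object `A`. -/
abbrev one : FpMod A := of A

/-- The free object of rank `n`. -/
abbrev free (n : ℕ) : FpMod A := of (Fin n → A)

/-- Multiplication by `a` on `A`. -/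
abbrev mulHom (a : A) : (one : FpMod A) ⟶ one := homOf (LinearMap.lsmul A A a)

/-- The map `A → M`, `x ↦ x • m`. -/
abbrev pt {X : FpMod A} (m : X.obj) : (one : FpMod A) ⟶ X :=
  homOf (LinearMap.toSpanSingleton A X.obj m)

lemma pt_comp {X Y : FpMod A} (m : X.obj) (f : X ⟶ Y) : pt m ≫ f = pt (lin f m) :=
  hom_ext' (by
    ext
    change lin f ((1 : A) • m) = (1 : A) • lin f m
    simp)

lemma mulHom_comp_pt {X : FpMod A} (a : A) (m : X.obj) : mulHom a ≫ pt m = pt (a • m) :=
  hom_ext' (by
    ext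
    change (a • (1 : A)) • m = (1 : A) • a • m
    simp)

lemma pt_add {X : FpMod A} (m m' : X.obj) : pt (m + m') = pt m + pt m' :=
  hom_ext' (by
    ext
    change (1 : A) • (m + m') = (1 : A) • m + (1 : A) • m'
    simp)

lemma mulHom_mul (a b : A) : (mulHom (a * b) : (one : FpMod A) ⟶ one) = mulHom b ≫ mulHom a :=
  hom_ext' (by
    ext
    change (a * b) • (1 : A) = a • b • (1 : A)
    simp [mul_assoc])

lemma mulHom_add (a b : A) : (mulHom (a + b) : (one : FpMod A) ⟶ one) = mulHom a + mulHom b :=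
  hom_ext' (by
    ext
    change (a + b) • (1 : A) = a • (1 : A) + b • (1 : A)
    simp)

lemma mulHom_one : (mulHom 1 : (one : FpMod A) ⟶ one) = 𝟙 _ :=
  hom_ext' (by
    ext
    change (1 : A) • (1 : A) = 1
    simp)

/-- Coordinate inclusions and projections of `free n`. -/
abbrev inj (n : ℕ) (i : Fin n) : (one : FpMod A) ⟶ free n :=
  homOf (LinearMap.single A (fun _ : Fin n => A) i)

abbrev proj (n : ℕ) (i : Fin n) : (free n : FpMod A) ⟶ one :=
  homOf (LinearMap.proj (R := A) (φ := fun _ : Fin n => A) i)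

lemma inj_proj (n : ℕ) (i l : Fin n) :
    (inj n i : (one : FpMod A) ⟶ free n) ≫ proj n l = if i = l then 𝟙 _ else 0 := by
  apply hom_ext'
  ext
  split_ifs with h
  · subst h
    change (Pi.single i (1 : A) : Fin n → A) i = 1
    simp
  · change (Pi.single i (1 : A) : Fin n → A) l = 0
    simp [Pi.single_apply, Ne.symm h]

lemma proj_inj_total (n : ℕ) : ∑ i, (proj n i : (free n : FpMod A) ⟶ one) ≫ inj n i = 𝟙 _ := by
  apply hom_ext'
  rw [lin_sum]
  ext x l
  simp only [lin_comp, lin_homOf, LinearMap.coe_comp, Function.comp_apply, LinearMap.coe_single,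
    LinearMap.sum_apply, Finset.sum_apply, LinearMap.coe_proj, Function.eval, lin_id,
    LinearMap.id_coe, id_eq, Pi.single_apply]
  simp

lemma pt_free (n : ℕ) (m : Fin n → A) :
    (pt (X := free n) m : (one : FpMod A) ⟶ free n) = ∑ i, mulHom (m i) ≫ inj n i := by
  apply hom_ext'
  rw [lin_sum]
  ext l
  simp only [lin_homOf, LinearMap.toSpanSingleton_apply, one_smul, lin_comp, LinearMap.sum_apply,
    LinearMap.coe_comp, Finset.sum_apply, Function.comp_apply, LinearMap.lsmul_apply, smul_eq_mul,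
    mul_one, LinearMap.coe_single, Pi.single_apply]
  simp

/-- Finite presentation of an object. -/
lemma exists_presentation (X : FpMod A) :
    ∃ (n m : ℕ) (r : (free m : FpMod A) ⟶ free n) (π : free n ⟶ X),
      Function.Surjective (lin π) ∧ Function.Exact (lin r) (lin π) := by
  obtain ⟨n, m, f, g, hf, hex⟩ := Module.FinitePresentation.exists_fin' A X.obj
  exact ⟨n, m, homOf g, homOf f, hf, hex⟩

end FpMod

end Groth.Agent.Lib.Helper2.EW
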