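import Groth.Agent.Lib.Helper2.EW.Tensor
import Groth.Agent.Lib.Helper2.EW.FpCat

/-!
# Right exact functors on finitely presented modules (Eilenberg–Watts, f.p. version)
-/

namespace Groth.Agent.Lib.Helper2.EW

open CategoryTheory CategoryTheory.Limits

universe u v' u'

variable {A : Type u} [CommRing A] {D : Type u'} [Category.{v'} D] [Preadditive D]

namespace FpFun

open FpMod

section Given

variable [HasFiniteBiproducts D] (F : FpMod A ⥤ D) [PreservesFiniteColimits F]

include F in
lemma preservesZeroMorphisms : F.PreservesZeroMorphisms := inferInstance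

lemma additive : F.Additive := by
  have := preservesBinaryBiproducts_of_preservesBinaryCoproducts F
  exact Functor.additive_of_preservesBinaryBiproducts F

variable [F.Additive]

/-- The action of `A` on `F(A)`. -/
noncomputable def kappa : A →+* End (F.obj one) where
  toFun a := F.map (mulHom a)
  map_one' := by rw [mulHom_one, F.map_id]; rfl
  map_mul' a b := by rw [mulHom_mul, F.map_comp, End.mul_def]
  map_zero' := by
    have : (mulHom (0 : A) : (one : FpMod A) ⟶ one) = 0 := hom_ext' (by ext; simp)
    rw [this, F.map_zero]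
  map_add' a b := by rw [mulHom_add, F.map_add]

@[simp] lemma kappa_apply (a : A) : kappa F a = F.map (mulHom a) := rfl

/-- The canonical pairing `M → Hom(F(A), F(M))`. -/
noncomputable def pairing (X : FpMod A) : Bil (kappa F) X.obj (F.obj X) where
  toFun m := F.map (pt m)
  map_add' m m' := by rw [pt_add, F.map_add]
  map_smul' a m := by rw [kappa_apply, ← F.map_comp, mulHom_comp_pt]

@[simp] lemma pairing_apply (X : FpMod A) (m : X.obj) : pairing F X m = F.map (pt m) := rfl

lemma pairing_map {X Y : FpMod A} (f : X ⟶ Y) (m : X.obj) :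
    pairing F X m ≫ F.map f = pairing F Y (lin f m) := by
  rw [pairing_apply, pairing_apply, ← F.map_comp, pt_comp]

lemma isTensor_free (n : ℕ) : IsTensor (pairing F (free n)) := by
  classical
  refine isTensor_of_basis (Pi.basisFun A (Fin n)) (fun i => F.map (inj n i))
    (fun i => F.map (proj n i)) (fun i l => ?_) ?_ _ (fun m => ?_)
  · rw [← F.map_comp, inj_proj]
    split_ifs
    · exact F.map_id _
    · exact F.map_zero _ _
  · simp only [← F.map_comp]
    rw [← F.map_sum, proj_inj_total, F.map_id]
  · rw [pairing_apply, pt_free, F.map_sum]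
    refine Finset.sum_congr rfl fun i _ => ?_
    rw [F.map_comp, kappa_apply, Pi.basisFun_repr]

lemma isTensor (X : FpMod A) : IsTensor (pairing F X) := by
  obtain ⟨n, m, r, π, hπ, hex⟩ := exists_presentation X
  have w : r ≫ π = 0 := hom_ext' (by
    ext x
    exact hex.apply_apply_eq_zero _)
  have hcok := CokernelCofork.mapIsColimit _ (isColimitOfExact r π hπ hex w) F
  exact isTensor_of_isColimit (lin r) (lin π) (F.map r) (F.map π)
    (isTensor_free F m) (isTensor_free F n) hπ hex (pairing_map F r) (pairing_map F π)
    (by rw [← F.map_comp, w, F.map_zero]) hcok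

end Given

section NatTrans

variable [HasFiniteBiproducts D] (F F' : FpMod A ⥤ D) [PreservesFiniteColimits F]
  [PreservesFiniteColimits F']

/-- A natural transformation is determined by its component at `A`. -/
lemma natTrans_ext (t t' : F ⟶ F') (h : t.app one = t'.app one) : t = t' := by
  haveI := additive F
  ext X
  refine (isTensor F X).hom_ext fun m => ?_
  rw [pairing_apply, t.naturality, t'.naturality, h]

/-- A morphism `F(A) ⟶ F'(A)` commuting with the `A`-actions extends to a natural
transformation. -/
lemma exists_natTrans (φ : F.obj one ⟶ F'.obj one)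
    (hφ : ∀ a : A, F.map (mulHom a) ≫ φ = φ ≫ F'.map (mulHom a)) :
    ∃ t : F ⟶ F', t.app one = φ := by
  haveI := additive F
  haveI := additive F'
  have hφ' : ∀ a, kappa F a ≫ φ = φ ≫ kappa F' a := hφ
  let t : F ⟶ F' :=
    { app := fun X => (isTensor F X).lift ((pairing F' X).pre φ hφ')
      naturality := by
        intro X Y f
        refine (isTensor F X).hom_ext fun m => ?_
        rw [IsTensor.fac_assoc, Bil.pre_apply, Category.assoc, pairing_map, ← Category.assoc,
          pairing_map, IsTensor.fac, Bil.pre_apply] }
  refine ⟨t, ?_⟩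
  have h1 := (isTensor F one).fac ((pairing F' one).pre φ hφ') (1 : A)
  have hpt : (pt (X := one) (1 : A) : (one : FpMod A) ⟶ one) = 𝟙 _ := hom_ext' (by ext; simp)
  rw [Bil.pre_apply, pairing_apply, pairing_apply, hpt, F.map_id, F'.map_id, Category.id_comp,
    Category.comp_id] at h1
  exact h1

end NatTrans

section Construct

variable [HasFiniteBiproducts D] [HasCokernels D] {K : D} (κ : A →+* End K)

/-- Every f.p. module has a tensor with `K`. -/
lemma exists_isTensor (X : FpMod A) : ∃ (Y : D) (u : Bil κ X.obj Y), IsTensor u := by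
  classical
  obtain ⟨n, m, r, π, hπ, hex⟩ := exists_presentation X
  have hfree : ∀ k : ℕ, IsTensor (Bil.ofBasis (κ := κ) (Pi.basisFun A (Fin k))
      (fun i => biproduct.ι (fun _ : Fin k => K) i)) := fun k =>
    isTensor_of_basis (Pi.basisFun A (Fin k)) _ (fun i => biproduct.π (fun _ : Fin k => K) i)
      (fun i l => by
        rw [biproduct.ι_π]
        split_ifs with h
        · subst h; rfl
        · rfl)
      (biproduct.total) _ (fun _ => rfl)
  let φ := (hfree m).map (Bil.ofBasis (κ := κ) (Pi.basisFun A (Fin n))
      (fun i => biproduct.ι (fun _ : Fin n => K) i)) (lin r)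
  let u := ((Bil.ofBasis (κ := κ) (Pi.basisFun A (Fin n))
      (fun i => biproduct.ι (fun _ : Fin n => K) i)).comp (cokernel.π φ)).descend (lin π) hπ (by
    intro y hy
    obtain ⟨x, rfl⟩ := (hex y).mp hy
    rw [Bil.comp_apply, ← IsTensor.map_fac (hfree m), Category.assoc]
    change _ ≫ φ ≫ cokernel.π φ = 0
    rw [cokernel.condition, Limits.comp_zero])
  refine ⟨cokernel φ, u, ?_⟩
  refine isTensor_of_isColimit (lin r) (lin π) φ (cokernel.π φ) (hfree m) (hfree n) hπ hex
    (fun x => IsTensor.map_fac _ _ _ _) (fun y => ?_) (cokernel.condition φ) ?_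
  · rw [Bil.descend_apply, Bil.comp_apply]
  · exact cokernelIsCokernel φ

/-- The chosen tensor object. -/
noncomputable def tObj (X : FpMod A) : D := (exists_isTensor κ X).choose

/-- The chosen universal pairing. -/
noncomputable def tBil (X : FpMod A) : Bil κ X.obj (tObj κ X) := (exists_isTensor κ X).choose_spec.choose

lemma tBil_isTensor (X : FpMod A) : IsTensor (tBil κ X) :=
  (exists_isTensor κ X).choose_spec.choose_spec

/-- The functor `K ⊗_A -` on f.p. modules. -/
noncomputable def tensorFunctor : FpMod A ⥤ D where
  obj X := tObj κ X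
  map {X Y} f := (tBil_isTensor κ X).map (tBil κ Y) (lin f)
  map_id X := (tBil_isTensor κ X).map_id
  map_comp {X Y Z} f g := (tBil_isTensor κ X).map_comp (tBil_isTensor κ Y) _ _ _

/-- The universal pairing, with values in `(tensorFunctor κ).obj X`. -/
noncomputable def tPair (X : FpMod A) : Bil κ X.obj ((tensorFunctor κ).obj X) := tBil κ X

lemma tPair_isTensor (X : FpMod A) : IsTensor (tPair κ X) := tBil_isTensor κ X

lemma tensorFunctor_map_fac {X Y : FpMod A} (f : X ⟶ Y) (m : X.obj) :
    tPair κ X m ≫ (tensorFunctor κ).map f = tPair κ Y (lin f m) :=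
  (tBil_isTensor κ X).map_fac _ _ _

instance : (tensorFunctor κ).Additive where
  map_add {X Y f g} := (tBil_isTensor κ X).map_add _ _ _

instance : PreservesFiniteColimits (tensorFunctor (A := A) κ) := by
  have : ∀ {X Y : FpMod A} (f : X ⟶ Y),
      PreservesColimit (parallelPair f 0) (tensorFunctor (A := A) κ) := by
    intro X Y f
    have hc : IsColimit (CokernelCofork.ofπ (cokerπ f) (cokerπ_w f)) :=
      isColimitOfExact f _ (cokerπ_surjective f) (cokerπ_exact f) (cokerπ_w f)
    refine preservesColimit_of_preserves_colimit_cocone hc ?_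
    refine (CokernelCofork.isColimitMapCoconeEquiv _ _).symm ?_
    exact isColimitOfIsTensor (u' := tPair κ X) (lin f) (lin (cokerπ f)) ((tensorFunctor κ).map f)
      ((tensorFunctor κ).map (cokerπ f))
      (tPair_isTensor κ Y) (tPair_isTensor κ _) (cokerπ_surjective f) (cokerπ_exact f)
      (tensorFunctor_map_fac κ f) (tensorFunctor_map_fac κ (cokerπ f))
      (by rw [← Functor.map_comp, cokerπ_w, Functor.map_zero])
  exact Functor.preservesFiniteColimits_of_preservesCokernels _

end Construct

end FpFun

end Groth.Agent.Lib.Helper2.EW
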