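import Groth.Agent.Lib.Helper2.EW.Tensor
import Groth.Agent.Lib.Helper2.EW.FpCat

/-!
# Eilenberg–Watts: right exact coproduct preserving functors `Mod_A ⥤ Mod_B` are tensor functors
-/

namespace Groth.Agent.Lib.Helper2.EW

open CategoryTheory CategoryTheory.Limits TensorProduct

universe u

variable {A B : Type u} [CommRing A] [CommRing B]

namespace ModFun

/-- The map `A → M`, `x ↦ x • m`. -/
abbrev pt {M : ModuleCat.{u} A} (m : M) : ModuleCat.of A A ⟶ M :=
  ModuleCat.ofHom (LinearMap.toSpanSingleton A M m)

/-- Multiplication by `a` on `A`. -/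
abbrev mulHom (a : A) : ModuleCat.of A A ⟶ ModuleCat.of A A :=
  ModuleCat.ofHom (LinearMap.lsmul A A a)

lemma pt_comp {M N : ModuleCat.{u} A} (m : M) (f : M ⟶ N) : pt m ≫ f = pt (f.hom m) := by
  ext
  change f.hom ((1 : A) • m) = (1 : A) • f.hom m
  simp

lemma mulHom_comp_pt {M : ModuleCat.{u} A} (a : A) (m : M) : mulHom a ≫ pt m = pt (a • m) := by
  ext
  change (a • (1 : A)) • m = (1 : A) • a • m
  simp

lemma pt_add {M : ModuleCat.{u} A} (m m' : M) : pt (m + m') = pt m + pt m' := by
  ext
  change (1 : A) • (m + m') = (1 : A) • m + (1 : A) • m'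
  simp

lemma mulHom_mul (a b : A) : (mulHom (a * b) : ModuleCat.of A A ⟶ _) = mulHom b ≫ mulHom a := by
  ext
  change (a * b) • (1 : A) = a • b • (1 : A)
  simp [mul_assoc]

lemma mulHom_add (a b : A) : (mulHom (a + b) : ModuleCat.of A A ⟶ _) = mulHom a + mulHom b := by
  ext
  change (a + b) • (1 : A) = a • (1 : A) + b • (1 : A)
  simp

lemma mulHom_one : (mulHom 1 : ModuleCat.of A A ⟶ _) = 𝟙 _ := by
  ext
  change (1 : A) • (1 : A) = 1
  simp

lemma mulHom_zero : (mulHom 0 : ModuleCat.of A A ⟶ _) = 0 := by
  ext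
  change (0 : A) • (1 : A) = 0
  simp

lemma pt_one : (pt (M := ModuleCat.of A A) (1 : A)) = 𝟙 _ := by
  ext
  change (1 : A) • (1 : A) = 1
  simp

/-- Right exact sequences give cokernel coforks in `ModuleCat`. -/
noncomputable def isColimitOfExact {X Y Z : ModuleCat.{u} A} (f : X ⟶ Y) (g : Y ⟶ Z)
    (hg : Function.Surjective g.hom) (hex : Function.Exact f.hom g.hom)
    (w : f ≫ g = 0) : IsColimit (CokernelCofork.ofπ g w) :=
  have key : ∀ {T : ModuleCat.{u} A} (h : Y ⟶ T), f ≫ h = 0 →
      ∀ y, g.hom y = 0 → h.hom y = 0 := by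
    intro T h hh y hy
    obtain ⟨x, rfl⟩ := (hex y).mp hy
    have : (f ≫ h).hom x = 0 := by rw [hh]; rfl
    exact this
  CokernelCofork.IsColimit.ofπ g w
    (fun {T} h hh => ModuleCat.ofHom (FpMod.exists_desc g.hom hg h.hom (key h hh)).choose)
    (fun {T} h hh => by
      ext y
      exact (FpMod.exists_desc g.hom hg h.hom (key h hh)).choose_spec y)
    (fun {T} h hh k hk => by
      apply ModuleCat.hom_ext
      apply LinearMap.ext
      intro z
      obtain ⟨y, rfl⟩ := hg z
      have h1 : k.hom (g.hom y) = h.hom y := by rw [← hk]; rfl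
      rw [h1]
      exact ((FpMod.exists_desc g.hom hg h.hom (key h hh)).choose_spec y).symm)

/-- The free module cofan. -/
noncomputable def freeCofanIsColimit (J : Type u) :
    IsColimit (Cofan.mk (ModuleCat.of A (J →₀ A))
      (fun i : J => ModuleCat.ofHom (Finsupp.lsingle (R := A) (M := A) i))) :=
  mkCofanColimit _
    (fun s => ModuleCat.ofHom (Finsupp.lsum A (fun i => (s.inj i).hom)))
    (fun s i => by
      ext
      simp [Cofan.inj])
    (fun s m hm => by
      apply ModuleCat.hom_ext
      apply Finsupp.lhom_ext'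
      intro i
      apply LinearMap.ext_ring
      have h2 : (ModuleCat.ofHom (Finsupp.lsingle (R := A) (M := A) i) ≫ m).hom (1 : A)
          = (s.inj i).hom 1 := by rw [← hm i]; rfl
      simpa using h2)

variable (F : ModuleCat.{u} A ⥤ ModuleCat.{u} B)

section Given

variable [F.Additive]

/-- The action of `A` on `F(A)`. -/
noncomputable def kappa : A →+* End (F.obj (ModuleCat.of A A)) where
  toFun a := F.map (mulHom a)
  map_one' := by rw [mulHom_one, F.map_id]; rfl
  map_mul' a b := by rw [mulHom_mul, F.map_comp, End.mul_def]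
  map_zero' := by rw [mulHom_zero, F.map_zero]
  map_add' a b := by rw [mulHom_add, F.map_add]

@[simp] lemma kappa_apply (a : A) : kappa F a = F.map (mulHom a) := rfl

/-- The canonical pairing `M → Hom(F(A), F(M))`. -/
noncomputable def pairing (M : ModuleCat.{u} A) : Bil (kappa F) M (F.obj M) where
  toFun m := F.map (pt m)
  map_add' m m' := by rw [pt_add, F.map_add]
  map_smul' a m := by rw [kappa_apply, ← F.map_comp, mulHom_comp_pt]

@[simp] lemma pairing_apply (M : ModuleCat.{u} A) (m : M) : pairing F M m = F.map (pt m) := rfl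

lemma pairing_map {M N : ModuleCat.{u} A} (f : M ⟶ N) (m : M) :
    pairing F M m ≫ F.map f = pairing F N (f.hom m) := by
  rw [pairing_apply, pairing_apply, ← F.map_comp, pt_comp]

variable [PreservesFiniteColimits F] [∀ J : Type u, PreservesColimitsOfShape (Discrete J) F]

lemma isTensor_free (J : Type u) : IsTensor (pairing F (ModuleCat.of A (J →₀ A))) := by
  have hc := isColimitCofanMkObjOfIsColimit F _ _ (freeCofanIsColimit (A := A) J)
  refine isTensor_of_basis_of_isColimit (Finsupp.basisSingleOne (R := A) (ι := J)) _ hc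
    (pairing F (ModuleCat.of A (J →₀ A))) (fun l => ?_)
  rw [pairing_apply]
  change _ = F.map _
  congr 1
  ext
  simp

lemma isTensor (M : ModuleCat.{u} A) : IsTensor (pairing F M) := by
  let π : (M →₀ A) →ₗ[A] M := Finsupp.linearCombination A id
  have hπ : Function.Surjective π := fun m => ⟨Finsupp.single m 1, by simp [π]⟩
  let N := LinearMap.ker π
  let ρ : (N →₀ A) →ₗ[A] N := Finsupp.linearCombination A id
  have hρ : Function.Surjective ρ := fun m => ⟨Finsupp.single m 1, by simp [ρ]⟩
  let r : (N →₀ A) →ₗ[A] (M →₀ A) := N.subtype ∘ₗ ρ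
  have hex : Function.Exact r π := by
    intro y
    constructor
    · intro hy
      obtain ⟨z, hz⟩ := hρ ⟨y, hy⟩
      exact ⟨z, by simp [r, hz]⟩
    · rintro ⟨z, rfl⟩
      exact (ρ z).2
  have w : ModuleCat.ofHom r ≫ ModuleCat.ofHom π = 0 := by
    ext x
    exact hex.apply_apply_eq_zero _
  have hcok := CokernelCofork.mapIsColimit _
    (isColimitOfExact (ModuleCat.ofHom r) (ModuleCat.ofHom π) hπ hex w) F
  exact isTensor_of_isColimit (M'' := M) r π (F.map (ModuleCat.ofHom r)) (F.map (ModuleCat.ofHom π))
    (isTensor_free F N) (isTensor_free F M) hπ hex (pairing_map F (ModuleCat.ofHom r))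
    (pairing_map F (ModuleCat.ofHom π))
    (by rw [← F.map_comp, w, F.map_zero]) hcok

/-- A natural transformation is determined by its component at `A`. -/
lemma natTrans_ext (F' : ModuleCat.{u} A ⥤ ModuleCat.{u} B) (t t' : F ⟶ F')
    (h : t.app (ModuleCat.of A A) = t'.app (ModuleCat.of A A)) : t = t' := by
  ext M : 2
  refine (isTensor F M).hom_ext fun m => ?_
  rw [pairing_apply, t.naturality, t'.naturality, h]

/-- A morphism `F(A) ⟶ F'(A)` commuting with the `A`-actions extends to a natural
transformation. -/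
lemma exists_natTrans (F' : ModuleCat.{u} A ⥤ ModuleCat.{u} B) [F'.Additive]
    (φ : F.obj (ModuleCat.of A A) ⟶ F'.obj (ModuleCat.of A A))
    (hφ : ∀ a : A, F.map (mulHom a) ≫ φ = φ ≫ F'.map (mulHom a)) :
    ∃ t : F ⟶ F', t.app (ModuleCat.of A A) = φ := by
  have hφ' : ∀ a, kappa F a ≫ φ = φ ≫ kappa F' a := hφ
  let t : F ⟶ F' :=
    { app := fun X => (isTensor F X).lift ((pairing F' X).pre φ hφ')
      naturality := by
        intro X Y f
        refine (isTensor F X).hom_ext fun m => ?_
        rw [IsTensor.fac_assoc, Bil.pre_apply, Category.assoc, pairing_map, ← Category.assoc,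
          pairing_map, IsTensor.fac, Bil.pre_apply] }
  refine ⟨t, ?_⟩
  have h1 := (isTensor F (ModuleCat.of A A)).fac ((pairing F' (ModuleCat.of A A)).pre φ hφ') (1 : A)
  rw [Bil.pre_apply, pairing_apply, pairing_apply, pt_one, F.map_id, F'.map_id, Category.id_comp,
    Category.comp_id] at h1
  exact h1

end Given

section TensorObj

variable [F.Additive]

/-- The bimodule `F(A)`. -/
def KK : Type u := F.obj (ModuleCat.of A A)

noncomputable instance : AddCommGroup (KK F) :=
  inferInstanceAs (AddCommGroup (F.obj (ModuleCat.of A A)))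

noncomputable instance : Module B (KK F) :=
  inferInstanceAs (Module B (F.obj (ModuleCat.of A A)))

/-- The `A`-action as a ring map to `B`-linear endomorphisms. -/
noncomputable def actHom : A →+* Module.End B (KK F) where
  toFun a := (F.map (mulHom a)).hom
  map_one' := by rw [mulHom_one, F.map_id]; rfl
  map_mul' a b := by rw [mulHom_mul, F.map_comp]; rfl
  map_zero' := by rw [mulHom_zero, F.map_zero]; rfl
  map_add' a b := by rw [mulHom_add, F.map_add]; rfl

noncomputable instance : Module A (KK F) := Module.compHom (KK F) (actHom F)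

lemma smul_def (a : A) (x : KK F) : a • x = (F.map (mulHom a)).hom x := rfl

instance : SMulCommClass A B (KK F) where
  smul_comm a b x := by
    rw [smul_def, smul_def]
    exact (F.map (mulHom a)).hom.map_smul b x

/-- The tensor object. -/
noncomputable abbrev tObj (M : ModuleCat.{u} A) : ModuleCat.{u} B := ModuleCat.of B (KK F ⊗[A] M)

/-- The map `k ↦ k ⊗ m`. -/
noncomputable def tmulRight (M : ModuleCat.{u} A) (m : M) : KK F →ₗ[B] KK F ⊗[A] M where
  toFun k := k ⊗ₜ[A] m
  map_add' k k' := TensorProduct.add_tmul k k' m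
  map_smul' b k := (TensorProduct.smul_tmul' b k m).symm

/-- The pairing of the tensor object. -/
noncomputable def tPair (M : ModuleCat.{u} A) : Bil (kappa F) M (tObj F M) where
  toFun m := (ModuleCat.ofHom (tmulRight F M m) : F.obj (ModuleCat.of A A) ⟶ tObj F M)
  map_add' m m' := by
    ext k
    exact TensorProduct.tmul_add (R := A) (M := KK F) k m m'
  map_smul' a m := by
    apply ModuleCat.hom_ext
    refine LinearMap.ext (fun (k : KK F) => ?_)
    change k ⊗ₜ[A] (a • m) = (a • k) ⊗ₜ[A] m
    rw [TensorProduct.smul_tmul]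

lemma tPair_apply (M : ModuleCat.{u} A) (m : M) (k : KK F) :
    (tPair F M m).hom k = k ⊗ₜ[A] m := rfl

/-- The additive lift of a pairing to the tensor product. -/
noncomputable def tLiftAdd (M : ModuleCat.{u} A) {T : ModuleCat.{u} B} (β : Bil (kappa F) M T) :
    KK F ⊗[A] M →+ T :=
  TensorProduct.liftAddHom (R := A)
    (AddMonoidHom.mk' (fun k : KK F => AddMonoidHom.mk' (fun m : M => (β m).hom k)
      (fun m m' => by rw [β.map_add]; rfl))
      (fun k k' => by
        ext m
        exact (β m).hom.map_add k k'))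
    (fun a k m => by
      change (β m).hom (a • k) = (β (a • m)).hom k
      rw [β.map_smul]
      rfl)

lemma tLiftAdd_tmul (M : ModuleCat.{u} A) {T : ModuleCat.{u} B} (β : Bil (kappa F) M T)
    (k : KK F) (m : M) : tLiftAdd F M β (k ⊗ₜ[A] m) = (β m).hom k := rfl

/-- The lift of a pairing to the tensor product. -/
noncomputable def tLift (M : ModuleCat.{u} A) {T : ModuleCat.{u} B} (β : Bil (kappa F) M T) :
    KK F ⊗[A] M →ₗ[B] T where
  toFun := tLiftAdd F M β
  map_add' := (tLiftAdd F M β).map_add
  map_smul' b x := by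
    induction x using TensorProduct.induction_on with
    | zero => simp
    | tmul k m =>
      rw [TensorProduct.smul_tmul', tLiftAdd_tmul, tLiftAdd_tmul]
      exact (β m).hom.map_smul b k
    | add x y hx hy =>
      rw [smul_add, map_add, map_add, smul_add, hx, hy]

lemma tLift_tmul (M : ModuleCat.{u} A) {T : ModuleCat.{u} B} (β : Bil (kappa F) M T)
    (k : KK F) (m : M) : tLift F M β (k ⊗ₜ[A] m) = (β m).hom k := rfl

lemma tPair_isTensor (M : ModuleCat.{u} A) : IsTensor (tPair F M) := by
  intro T β
  refine ⟨ModuleCat.ofHom (tLift F M β), fun m => ?_, fun h hh => ?_⟩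
  · ext k
    rfl
  · apply ModuleCat.hom_ext
    apply LinearMap.ext
    intro x
    induction x using TensorProduct.induction_on with
    | zero => simp
    | tmul k m =>
      exact congrArg (fun g => g.hom k) (hh m)
    | add x y hx hy => rw [map_add, map_add, hx, hy]

variable [PreservesFiniteColimits F] [∀ J : Type u, PreservesColimitsOfShape (Discrete J) F]

/-- The comparison isomorphism. -/
noncomputable def etaIso (M : ModuleCat.{u} A) : tObj F M ≅ F.obj M :=
  (tPair_isTensor F M).iso (isTensor F M)

/-- The comparison linear equivalence. -/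
noncomputable def eta (M : ModuleCat.{u} A) : (KK F ⊗[A] M) ≃ₗ[B] F.obj M :=
  (etaIso F M).toLinearEquiv

lemma eta_tmul (M : ModuleCat.{u} A) (k : KK F) (m : M) :
    eta F M (k ⊗ₜ[A] m) = (pairing F M m).hom k :=
  congrArg (fun g => g.hom k) ((tPair_isTensor F M).iso_hom_fac (isTensor F M) m)

lemma eta_natural (M N : ModuleCat.{u} A) (f : M ⟶ N) (x : KK F ⊗[A] M) :
    eta F N (LinearMap.lTensor (KK F) f.hom x) = F.map f (eta F M x) := by
  induction x using TensorProduct.induction_on with
  | zero => simp
  | tmul k m =>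
    rw [LinearMap.lTensor_tmul, eta_tmul, eta_tmul, ← pairing_map]
    rfl
  | add x y hx hy => rw [map_add, map_add, map_add, map_add, hx, hy]

end TensorObj

end ModFun

end Groth.Agent.Lib.Helper2.EW
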