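import Mathlib

/-!
# Abstract "tensor product with an object" `K ⊗_A M` in a preadditive category, by universal property

`K : D`, `κ : A →+* End K`.  A *pairing* `Bil κ M T` is a map `M → (K ⟶ T)` which is additive and
satisfies `β (a • m) = κ a ≫ β m`.  `IsTensor u` says `u : Bil κ M X` is universal.
-/

namespace Groth.Agent.Lib.Helper2.EW

open CategoryTheory CategoryTheory.Limits

universe u w v' u'

variable {A : Type u} [CommRing A] {D : Type u'} [Category.{v'} D] [Preadditive D] {K : D}

/-- A pairing `M → Hom(K, T)`, additive and `A`-semilinear through `κ`. -/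
structure Bil (κ : A →+* End K) (M : Type w) [AddCommGroup M] [Module A M] (T : D) where
  toFun : M → (K ⟶ T)
  map_add' : ∀ m m', toFun (m + m') = toFun m + toFun m'
  map_smul' : ∀ (a : A) m, toFun (a • m) = κ a ≫ toFun m

namespace Bil

variable {κ : A →+* End K} {M : Type w} [AddCommGroup M] [Module A M]
  {N : Type*} [AddCommGroup N] [Module A N] {T T' X : D}

instance : CoeFun (Bil κ M T) (fun _ => M → (K ⟶ T)) := ⟨Bil.toFun⟩

@[ext] lemma ext {β β' : Bil κ M T} (h : ∀ m, β m = β' m) : β = β' := by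
  cases β; cases β'; congr; funext m; exact h m

lemma map_add (β : Bil κ M T) (m m' : M) : β (m + m') = β m + β m' := β.map_add' m m'
lemma map_smul (β : Bil κ M T) (a : A) (m : M) : β (a • m) = κ a ≫ β m := β.map_smul' a m

/-- As an additive map. -/
def toAddMonoidHom (β : Bil κ M T) : M →+ (K ⟶ T) :=
  AddMonoidHom.mk' β.toFun β.map_add'

@[simp] lemma toAddMonoidHom_apply (β : Bil κ M T) (m : M) : β.toAddMonoidHom m = β m := rfl

lemma map_zero (β : Bil κ M T) : β 0 = 0 := β.toAddMonoidHom.map_zero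
lemma map_neg (β : Bil κ M T) (m : M) : β (-m) = -β m := β.toAddMonoidHom.map_neg m
lemma map_sub (β : Bil κ M T) (m m' : M) : β (m - m') = β m - β m' :=
  β.toAddMonoidHom.map_sub m m'
lemma map_sum (β : Bil κ M T) {ι : Type*} (s : Finset ι) (f : ι → M) :
    β (∑ i ∈ s, f i) = ∑ i ∈ s, β (f i) := _root_.map_sum β.toAddMonoidHom f s

/-- Postcompose with a morphism. -/
def comp (β : Bil κ M T) (h : T ⟶ T') : Bil κ M T' where
  toFun m := β m ≫ h
  map_add' m m' := by rw [β.map_add, Preadditive.add_comp]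
  map_smul' a m := by rw [β.map_smul, Category.assoc]

@[simp] lemma comp_apply (β : Bil κ M T) (h : T ⟶ T') (m : M) : β.comp h m = β m ≫ h := rfl

/-- Precompose with a linear map. -/
def precomp (β : Bil κ N T) (f : M →ₗ[A] N) : Bil κ M T where
  toFun m := β (f m)
  map_add' m m' := by rw [_root_.map_add, β.map_add]
  map_smul' a m := by rw [_root_.map_smul, β.map_smul]

@[simp] lemma precomp_apply (β : Bil κ N T) (f : M →ₗ[A] N) (m : M) :
    β.precomp f m = β (f m) := rfl

/-- Sum of pairings. -/
def add (β β' : Bil κ M T) : Bil κ M T where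
  toFun m := β m + β' m
  map_add' m m' := by rw [β.map_add, β'.map_add]; abel
  map_smul' a m := by rw [β.map_smul, β'.map_smul, Preadditive.comp_add]

/-- The canonical pairing `A → Hom(K, K)`. -/
def self (κ : A →+* End K) : Bil κ A K where
  toFun a := κ a
  map_add' a b := κ.map_add a b
  map_smul' a b := by
    change κ (a * b) = κ a ≫ κ b
    rw [mul_comm, κ.map_mul, End.mul_def]

@[simp] lemma self_apply (κ : A →+* End K) (a : A) : self κ a = κ a := rfl

/-- Descend a pairing along a surjection killing the kernel. -/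
noncomputable def descend (β : Bil κ M T) (g : M →ₗ[A] N) (hg : Function.Surjective g)
    (hker : ∀ m, g m = 0 → β m = 0) : Bil κ N T where
  toFun n := β (Function.surjInv hg n)
  map_add' n n' := by
    rw [← β.map_add, ← sub_eq_zero, ← β.map_sub]
    apply hker
    simp [Function.surjInv_eq hg]
  map_smul' a n := by
    rw [← β.map_smul, ← sub_eq_zero, ← β.map_sub]
    apply hker
    simp [Function.surjInv_eq hg]

lemma descend_apply (β : Bil κ M T) (g : M →ₗ[A] N) (hg : Function.Surjective g)
    (hker : ∀ m, g m = 0 → β m = 0) (m : M) : β.descend g hg hker (g m) = β m := by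
  change β (Function.surjInv hg (g m)) = β m
  rw [← sub_eq_zero, ← β.map_sub]
  apply hker
  simp [Function.surjInv_eq hg]

/-- Change of `K`: a morphism `φ : K ⟶ K'` intertwining `κ` and `κ'`. -/
def pre {K' : D} {κ' : A →+* End K'} (β : Bil κ' M T) (φ : K ⟶ K')
    (hφ : ∀ a, κ a ≫ φ = φ ≫ κ' a) : Bil κ M T where
  toFun m := φ ≫ β m
  map_add' m m' := by rw [β.map_add, Preadditive.comp_add]
  map_smul' a m := by rw [β.map_smul, ← Category.assoc, ← hφ, Category.assoc]

@[simp] lemma pre_apply {K' : D} {κ' : A →+* End K'} (β : Bil κ' M T) (φ : K ⟶ K')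
    (hφ : ∀ a, κ a ≫ φ = φ ≫ κ' a) (m : M) : β.pre φ hφ m = φ ≫ β m := rfl

end Bil

/-- `u` is a universal pairing: `X = K ⊗_A M`. -/
def IsTensor {κ : A →+* End K} {M : Type w} [AddCommGroup M] [Module A M] {X : D}
    (u : Bil κ M X) : Prop :=
  ∀ (T : D) (β : Bil κ M T), ∃! h : X ⟶ T, ∀ m, u m ≫ h = β m

namespace IsTensor

variable {κ : A →+* End K} {M : Type w} [AddCommGroup M] [Module A M]
  {N : Type w} [AddCommGroup N] [Module A N]
  {P : Type w} [AddCommGroup P] [Module A P] {T X Y Z : D}
  {u : Bil κ M X}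

/-- The induced morphism. -/
noncomputable def lift (hu : IsTensor u) (β : Bil κ M T) : X ⟶ T := (hu T β).exists.choose

@[reassoc (attr := simp)]
lemma fac (hu : IsTensor u) (β : Bil κ M T) (m : M) : u m ≫ hu.lift β = β m :=
  (hu T β).exists.choose_spec m

lemma hom_ext (hu : IsTensor u) {h h' : X ⟶ T} (H : ∀ m, u m ≫ h = u m ≫ h') : h = h' :=
  (hu T (u.comp h')).unique (fun m => by simp [H m]) (fun m => by simp)

lemma lift_unique (hu : IsTensor u) (β : Bil κ M T) (h : X ⟶ T) (H : ∀ m, u m ≫ h = β m) :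
    h = hu.lift β :=
  hu.hom_ext fun m => by rw [H, hu.fac]

/-- Functoriality. -/
noncomputable def map (hu : IsTensor u) (v : Bil κ N Y) (f : M →ₗ[A] N) : X ⟶ Y :=
  hu.lift (v.precomp f)

@[reassoc (attr := simp)]
lemma map_fac (hu : IsTensor u) (v : Bil κ N Y) (f : M →ₗ[A] N) (m : M) :
    u m ≫ hu.map v f = v (f m) := by
  simp [map]

lemma map_id (hu : IsTensor u) : hu.map u LinearMap.id = 𝟙 X :=
  hu.hom_ext fun m => by simp

lemma map_comp (hu : IsTensor u) {v : Bil κ N Y} (hv : IsTensor v) (w : Bil κ P Z)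
    (f : M →ₗ[A] N) (g : N →ₗ[A] P) :
    hu.map w (g ∘ₗ f) = hu.map v f ≫ hv.map w g :=
  hu.hom_ext fun m => by simp

lemma map_add (hu : IsTensor u) (v : Bil κ N Y) (f g : M →ₗ[A] N) :
    hu.map v (f + g) = hu.map v f + hu.map v g :=
  hu.hom_ext fun m => by simp [Preadditive.comp_add, v.map_add]

/-- Two tensors of the same module are isomorphic. -/
noncomputable def iso (hu : IsTensor u) {v : Bil κ M Y} (hv : IsTensor v) : X ≅ Y where
  hom := hu.lift v
  inv := hv.lift u
  hom_inv_id := hu.hom_ext fun m => by simp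
  inv_hom_id := hv.hom_ext fun m => by simp

@[reassoc (attr := simp)]
lemma iso_hom_fac (hu : IsTensor u) {v : Bil κ M Y} (hv : IsTensor v) (m : M) :
    u m ≫ (hu.iso hv).hom = v m := by simp [iso]

@[reassoc (attr := simp)]
lemma iso_inv_fac (hu : IsTensor u) {v : Bil κ M Y} (hv : IsTensor v) (m : M) :
    v m ≫ (hu.iso hv).inv = u m := by simp [iso]

end IsTensor

/-- `K` itself is `K ⊗_A A`. -/
lemma isTensor_self (κ : A →+* End K) : IsTensor (Bil.self κ) := by
  intro T β
  refine ⟨β 1, fun a => ?_, fun h hh => ?_⟩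
  · change κ a ≫ β 1 = β a
    rw [← β.map_smul, smul_eq_mul, mul_one]
  · have := hh 1
    simp only [Bil.self_apply, map_one, End.one_def, Category.id_comp] at this
    exact this

section Free

variable {κ : A →+* End K} {M : Type w} [AddCommGroup M] [Module A M] {X : D}

/-- Finite free module with basis `b`, and `X` a biproduct of copies of `K`
(`j`/`q` injections/projections). -/
lemma isTensor_of_basis {J : Type*} [Fintype J] [DecidableEq J] (b : Module.Basis J A M)
    (j : J → (K ⟶ X)) (q : J → (X ⟶ K))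
    (hjq : ∀ i l, j i ≫ q l = if i = l then 𝟙 K else 0)
    (htot : ∑ i, q i ≫ j i = 𝟙 X)
    (u : Bil κ M X) (hu : ∀ m, u m = ∑ i, κ (b.repr m i) ≫ j i) : IsTensor u := by
  intro T β
  have hub : ∀ l, u (b l) = j l := by
    intro l
    rw [hu]
    rw [Finset.sum_eq_single l]
    · simp [End.one_def]
    · intro i _ hil
      simp [Finsupp.single_eq_of_ne hil]
    · intro h; exact absurd (Finset.mem_univ l) h
  refine ⟨∑ l, q l ≫ β (b l), fun m => ?_, fun h hh => ?_⟩
  · rw [hu, Preadditive.sum_comp]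
    have : ∀ i, (κ (b.repr m i) ≫ j i) ≫ ∑ l, q l ≫ β (b l) = β (b.repr m i • b i) := by
      intro i
      rw [Preadditive.comp_sum, Finset.sum_eq_single i]
      · rw [Category.assoc, ← Category.assoc (j i), hjq, if_pos rfl, Category.id_comp, β.map_smul]
      · intro l _ hli
        rw [Category.assoc, ← Category.assoc (j i), hjq, if_neg (Ne.symm hli)]
        simp
      · intro h; exact absurd (Finset.mem_univ i) h
    rw [Finset.sum_congr rfl fun i _ => this i, ← β.map_sum, b.sum_repr]
  · rw [← Category.id_comp h, ← htot, Preadditive.sum_comp]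
    refine Finset.sum_congr rfl fun l _ => ?_
    rw [Category.assoc, ← hub, hh]

/-- The pairing on a finite free module given by injections `j`. -/
noncomputable def Bil.ofBasis {J : Type*} [Fintype J] (b : Module.Basis J A M) (j : J → (K ⟶ X)) :
    Bil κ M X where
  toFun m := ∑ i, κ (b.repr m i) ≫ j i
  map_add' m m' := by
    rw [← Finset.sum_add_distrib]
    refine Finset.sum_congr rfl fun i _ => ?_
    rw [_root_.map_add, Finsupp.add_apply, _root_.map_add, Preadditive.add_comp]
  map_smul' a m := by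
    rw [Preadditive.comp_sum]
    refine Finset.sum_congr rfl fun i _ => ?_
    rw [_root_.map_smul, Finsupp.smul_apply, smul_eq_mul, mul_comm, κ.map_mul, End.mul_def,
      Category.assoc]

/-- Free module on an arbitrary basis, with `X` a coproduct of copies of `K`. -/
lemma isTensor_of_basis_of_isColimit {J : Type*} (b : Module.Basis J A M)
    (c : Cofan (fun _ : J => K)) (hc : IsColimit c)
    (u : Bil κ M c.pt) (hu : ∀ l, u (b l) = c.inj l) : IsTensor u := by
  intro T β
  refine ⟨Cofan.IsColimit.desc hc (fun l => β (b l)), fun m => ?_, fun h hh => ?_⟩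
  · have hm : m = ∑ i ∈ (b.repr m).support, b.repr m i • b i := by
      conv_lhs => rw [← b.linearCombination_repr m]
      rw [Finsupp.linearCombination_apply, Finsupp.sum]
    rw [hm, u.map_sum, β.map_sum, Preadditive.sum_comp]
    refine Finset.sum_congr rfl fun i _ => ?_
    rw [u.map_smul, β.map_smul, Category.assoc, hu, Cofan.IsColimit.fac]
  · refine Cofan.IsColimit.hom_ext hc _ _ fun l => ?_
    rw [Cofan.IsColimit.fac, ← hu, hh]

end Free

section Cokernel

variable {κ : A →+* End K}
  {M' : Type w} [AddCommGroup M'] [Module A M']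
  {M : Type w} [AddCommGroup M] [Module A M]
  {M'' : Type w} [AddCommGroup M''] [Module A M'']
  {X' X X'' : D} {u' : Bil κ M' X'} {u : Bil κ M X} {u'' : Bil κ M'' X''}
  (f : M' →ₗ[A] M) (g : M →ₗ[A] M'')
  (φ : X' ⟶ X) (ψ : X ⟶ X'')

include f g in
lemma comp_eq_zero_of_compat (hu' : IsTensor u') (hfg : ∀ m', g (f m') = 0)
    (hφ : ∀ m', u' m' ≫ φ = u (f m')) (hψ : ∀ m, u m ≫ ψ = u'' (g m)) : φ ≫ ψ = 0 := by
  refine hu'.hom_ext fun m' => ?_
  rw [← Category.assoc, hφ, hψ, hfg, u''.map_zero, Limits.comp_zero]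

/-- Right exactness: a cokernel of tensors is a tensor. -/
lemma isTensor_of_isColimit (hu' : IsTensor u') (hu : IsTensor u)
    (hg : Function.Surjective g) (hex : Function.Exact f g)
    (hφ : ∀ m', u' m' ≫ φ = u (f m')) (hψ : ∀ m, u m ≫ ψ = u'' (g m))
    (w : φ ≫ ψ = 0) (hcok : IsColimit (CokernelCofork.ofπ ψ w)) : IsTensor u'' := by
  intro T β''
  have h0 : φ ≫ hu.lift (β''.precomp g) = 0 := by
    refine hu'.hom_ext fun m' => ?_
    rw [← Category.assoc, hφ, hu.fac, Bil.precomp_apply, hex.apply_apply_eq_zero,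
      β''.map_zero, Limits.comp_zero]
  refine ⟨hcok.desc (CokernelCofork.ofπ _ h0), fun m'' => ?_, fun h hh => ?_⟩
  · obtain ⟨m, rfl⟩ := hg m''
    rw [← hψ, Category.assoc]
    have := hcok.fac (CokernelCofork.ofπ _ h0) WalkingParallelPair.one
    simp only [Cofork.ofπ_pt, Cofork.ofπ_ι_app] at this
    rw [this, hu.fac, Bil.precomp_apply]
  · refine Cofork.IsColimit.hom_ext hcok ?_
    have := hcok.fac (CokernelCofork.ofπ _ h0) WalkingParallelPair.one
    simp only [Cofork.ofπ_pt, Cofork.ofπ_ι_app] at this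
    simp only [Cofork.π_ofπ]
    rw [this]
    refine hu.hom_ext fun m => ?_
    rw [← Category.assoc, hψ, hh, hu.fac, Bil.precomp_apply]

/-- Conversely, a right exact sequence of modules gives a cokernel of tensors. -/
noncomputable def isColimitOfIsTensor (hu : IsTensor u) (hu'' : IsTensor u'')
    (hg : Function.Surjective g) (hex : Function.Exact f g)
    (hφ : ∀ m', u' m' ≫ φ = u (f m')) (hψ : ∀ m, u m ≫ ψ = u'' (g m))
    (w : φ ≫ ψ = 0) : IsColimit (CokernelCofork.ofπ ψ w) :=
  CokernelCofork.IsColimit.ofπ ψ w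
    (fun {T} h hh => hu''.lift ((u.comp h).descend g hg (by
      intro m hm
      obtain ⟨m', rfl⟩ := (hex m).mp hm
      rw [Bil.comp_apply, ← hφ, Category.assoc, hh, Limits.comp_zero])))
    (fun {T} h hh => hu.hom_ext fun m => by
      rw [← Category.assoc, hψ, hu''.fac, Bil.descend_apply, Bil.comp_apply])
    (fun {T} h hh k hk => hu''.lift_unique _ _ fun m'' => by
      obtain ⟨m, rfl⟩ := hg m''
      rw [Bil.descend_apply, Bil.comp_apply, ← hψ, Category.assoc, hk])

end Cokernel

end Groth.Agent.Lib.Helper2.EW
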